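import Groth.Agent.AdicRingLib.RigClosedFinite
import Mathlib.RingTheory.ZariskisMainTheorem
import Mathlib.RingTheory.Ideal.KrullsHeightTheorem
import Mathlib.RingTheory.EssentialFiniteness
import Mathlib.RingTheory.Localization.LocalizationLocalization

/-!
A point with quasi-finite quotient in an open set meeting the generic fibres.
-/

set_option autoImplicit false
set_option maxHeartbeats 800000
set_option linter.style.haveILetI false
universe u
open IsLocalRing

namespace Groth.Agent.QFPointLib

/-- A prime avoiding `g` and maximal for this has only the maximal ideal strictly above it. -/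
theorem eq_maximalIdeal_of_lt {B : Type u} [CommRing B] [IsLocalRing B] [IsNoetherianRing B]
    {q : Ideal B} [q.IsPrime] {g : B} (hg : g ∈ maximalIdeal B) (hgq : g ∉ q)
    (hmax : ∀ P : Ideal B, P.IsPrime → q < P → g ∈ P) :
    ∀ P : Ideal B, P.IsPrime → q < P → P = maximalIdeal B := by
  intro P hP hlt
  by_contra hne
  set T := B ⧸ q
  set π := Ideal.Quotient.mk q
  haveI : IsNoetherianRing T := inferInstance
  have hfin : ((Ideal.span {π g} : Ideal T).minimalPrimes).Finite :=
    Ideal.finite_minimalPrimes_of_isNoetherianRing T _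
  -- an element of the maximal ideal outside all minimal primes over `g` and outside `q`
  haveI : IsLocalRing T := .of_surjective' π Ideal.Quotient.mk_surjective
  have hker : RingHom.ker π ≤ P := by rw [Ideal.mk_ker]; exact hlt.le
  haveI hP' : (P.map π).IsPrime := Ideal.map_isPrime_of_surjective Ideal.Quotient.mk_surjective hker
  have hP'0 : P.map π ≠ ⊥ := by
    intro h
    rw [Ideal.map_eq_bot_iff_le_ker, Ideal.mk_ker] at h
    exact hlt.not_ge h
  have hP'm : P.map π ≠ maximalIdeal T := by
    intro h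
    apply hne
    have h1 := congrArg (Ideal.comap π) h
    rw [Ideal.comap_map_of_surjective' π Ideal.Quotient.mk_surjective, Ideal.mk_ker, sup_eq_left.mpr hlt.le] at h1
    rw [h1]
    haveI : ((maximalIdeal T).comap π).IsMaximal :=
      Ideal.comap_isMaximal_of_surjective π Ideal.Quotient.mk_surjective
    exact IsLocalRing.eq_maximalIdeal this
  -- every minimal prime over `g` is below a height one bound
  have hsub : ¬ ((maximalIdeal T : Ideal T) : Set T) ⊆
      ⋃ M ∈ ((hfin.toFinset.filter (fun M => M ≠ maximalIdeal T) : Finset (Ideal T)) : Set (Ideal T)), (M : Set T) := by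
    rw [Ideal.subset_union_prime ⊥ ⊥]
    · rintro ⟨M, hM, hle⟩
      rw [Finset.mem_filter, Set.Finite.mem_toFinset] at hM
      exact hM.2 (le_antisymm (IsLocalRing.le_maximalIdeal hM.1.1.1.ne_top) hle)
    · intro M hM _ _
      rw [Finset.mem_filter, Set.Finite.mem_toFinset] at hM
      exact hM.1.1.1
  obtain ⟨y, hy, hy'⟩ := Set.not_subset.mp hsub
  -- take a minimal prime over `y`
  obtain ⟨M, hM, hMP⟩ : ∃ M ∈ (Ideal.span {π g} : Ideal T).minimalPrimes, M ≤ P.map π := by
    exact Ideal.exists_minimalPrimes_le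
      ((Ideal.span_singleton_le_iff_mem _).mpr (Ideal.mem_map_of_mem π (hmax P hP hlt)))
  haveI := hM.1.1
  have hMm : M ≠ maximalIdeal T := fun h => hP'm (le_antisymm (IsLocalRing.le_maximalIdeal hP'.ne_top) (h ▸ hMP))
  have hyM : y ∉ M := fun h => hy' (Set.mem_biUnion (Finset.mem_filter.mpr ⟨hfin.mem_toFinset.mpr hM, hMm⟩) h)
  obtain ⟨N, hN⟩ : ((Ideal.span {y} : Ideal T).minimalPrimes).Nonempty := by
    refine Set.nonempty_coe_sort.mp (Ideal.nonempty_minimalPrimes fun h => ?_)
    exact (maximalIdeal.isMaximal T).ne_top (top_le_iff.mp (h ▸ (Ideal.span_singleton_le_iff_mem _).mpr hy))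
  haveI := hN.1.1
  have hN1 : N.height ≤ 1 := Ideal.height_le_one_of_isPrincipal_of_mem_minimalPrimes (Ideal.span {y}) N hN
  have hy0 : y ≠ 0 := fun h => hyM (h ▸ M.zero_mem)
  have hN0 : N ≠ ⊥ := fun h => hy0 (by
    have := hN.1.2 (Ideal.mem_span_singleton_self y)
    rwa [h, Ideal.mem_bot] at this)
  -- `g ∈ N`, so a minimal prime over `g` sits inside `N`
  have hgN : π g ∈ N := by
    have hQ : q < N.comap π := by
      refine lt_of_le_of_ne (fun b hb => ?_) fun h => hN0 ?_
      · rw [Ideal.mem_comap, show π b = 0 from Ideal.Quotient.eq_zero_iff_mem.mpr hb]; exact N.zero_mem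
      · rw [eq_bot_iff]
        intro z hz
        obtain ⟨b, rfl⟩ := Ideal.Quotient.mk_surjective z
        exact Ideal.Quotient.eq_zero_iff_mem.mpr (h.symm ▸ (hz : b ∈ N.comap π))
    exact hmax _ (Ideal.comap_isPrime π N) hQ
  obtain ⟨M', hM', hM'N⟩ := Ideal.exists_minimalPrimes_le (I := (Ideal.span {π g} : Ideal T)) (J := N)
    ((Ideal.span_singleton_le_iff_mem _).mpr hgN)
  haveI := hM'.1.1
  have hM'0 : M' ≠ ⊥ := fun h => hgq (by
    have := hM'.1.2 (Ideal.mem_span_singleton_self (π g))
    rw [h, Ideal.mem_bot] at this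
    exact Ideal.Quotient.eq_zero_iff_mem.mp this)
  have hM'eq : M' = N := by
    by_contra hne'
    have h1 : M'.height < N.height := Ideal.height_strict_mono_of_isPrime (lt_of_le_of_ne hM'N hne')
    have h2 : (⊥ : Ideal T).height < M'.height :=
      Ideal.height_strict_mono_of_isPrime (bot_lt_iff_ne_bot.mpr hM'0)
    have hb : M'.height < 1 := lt_of_lt_of_le h1 hN1
    rw [ENat.lt_one_iff_eq_zero] at hb
    rw [hb] at h2
    exact not_lt_zero h2
  have hM'm : M' ≠ maximalIdeal T := by
    intro h
    have : N = maximalIdeal T := hM'eq ▸ h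
    -- then the maximal ideal has height one, so `M` is zero or maximal
    have hlt1 : M < maximalIdeal T := lt_of_le_of_ne (IsLocalRing.le_maximalIdeal hM.1.1.ne_top) hMm
    have hM0 : M ≠ ⊥ := fun h0 => hgq (by
      have := hM.1.2 (Ideal.mem_span_singleton_self (π g))
      rw [h0, Ideal.mem_bot] at this
      exact Ideal.Quotient.eq_zero_iff_mem.mp this)
    have h1 : M.height < N.height := this ▸ Ideal.height_strict_mono_of_isPrime hlt1
    have h2 : (⊥ : Ideal T).height < M.height :=
      Ideal.height_strict_mono_of_isPrime (bot_lt_iff_ne_bot.mpr hM0)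
    have hb : M.height < 1 := lt_of_lt_of_le h1 hN1
    rw [ENat.lt_one_iff_eq_zero] at hb
    rw [hb] at h2
    exact not_lt_zero h2
  exact hy' (Set.mem_biUnion (Finset.mem_filter.mpr ⟨hfin.mem_toFinset.mpr hM', hM'm⟩)
    (hM'eq ▸ hN.1.2 (Ideal.mem_span_singleton_self y)))

theorem main {A B : Type u} [CommRing A] [CommRing B] [IsLocalRing A] [IsLocalRing B] [IsNoetherianRing A]
    [Algebra A B] [IsLocalHom (algebraMap A B)] [Algebra.EssFiniteType A B]
    [Module.Finite (IsLocalRing.ResidueField A) (IsLocalRing.ResidueField B)]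
    (V : Set (PrimeSpectrum B)) (hV : IsOpen V) (hne : ∃ q ∈ V, q.asIdeal.comap (algebraMap A B) ≠ IsLocalRing.maximalIdeal A) :
    ∃ q ∈ V, q.asIdeal.comap (algebraMap A B) ≠ IsLocalRing.maximalIdeal A ∧ Algebra.QuasiFinite A (B ⧸ q.asIdeal) := by
  classical
  haveI : IsNoetherianRing B := Algebra.EssFiniteType.isNoetherianRing A B
  obtain ⟨q₀, hq₀V, hq₀⟩ := hne
  obtain ⟨g₁, hg₁V, hg₁⟩ : ∃ g : B, (∀ P : PrimeSpectrum B, g ∉ P.asIdeal → P ∈ V) ∧ g ∉ q₀.asIdeal := by
    obtain ⟨U, ⟨g, rfl⟩, hq, hUV⟩ :=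
      PrimeSpectrum.isTopologicalBasis_basic_opens.exists_subset_of_mem_open hq₀V hV
    exact ⟨g, fun P hP => hUV hP, hq⟩
  obtain ⟨a, ha, ha'⟩ : ∃ a ∈ maximalIdeal A, algebraMap A B a ∉ q₀.asIdeal := by
    by_contra h
    push Not at h
    exact hq₀ ((maximalIdeal.isMaximal A).eq_of_le (Ideal.comap_ne_top _ q₀.isPrime.ne_top) h).symm
  set g := g₁ * algebraMap A B a with hg
  have haB : algebraMap A B a ∈ maximalIdeal B := by
    rw [mem_maximalIdeal, mem_nonunits_iff]
    exact fun h => (mem_maximalIdeal a).mp ha ((isUnit_map_iff (algebraMap A B) a).mp h)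
  have hgm : g ∈ maximalIdeal B := Ideal.mul_mem_left _ _ haB
  obtain ⟨q, ⟨hq, hgq⟩, hqmax⟩ := set_has_maximal_iff_noetherian.mpr (inferInstance : IsNoetherian B B)
    {P : Ideal B | P.IsPrime ∧ g ∉ P} ⟨q₀.asIdeal, q₀.isPrime,
      fun h => (q₀.isPrime.mem_or_mem h).elim hg₁ ha'⟩
  haveI := hq
  have habove := eq_maximalIdeal_of_lt hgm hgq fun P hP hlt => by
    by_contra hgP
    exact hqmax P ⟨hP, hgP⟩ hlt
  refine ⟨⟨q, hq⟩, hg₁V _ fun h => hgq (Ideal.mul_mem_right _ _ h), fun h => hgq
    (Ideal.mul_mem_left _ _ (show algebraMap A B a ∈ q from (h.ge ha : _))), ?_⟩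
  show Algebra.QuasiFinite A (B ⧸ q)
  -- the closed fibre is finite
  haveI : Module.Finite A (B ⧸ maximalIdeal B) := by
    show Module.Finite A (ResidueField B)
    haveI : Module.Finite A (ResidueField A) :=
      Module.Finite.of_surjective (Algebra.linearMap A (ResidueField A)) residue_surjective
    exact Module.Finite.trans (ResidueField A) (ResidueField B)
  set T := B ⧸ q
  haveI : IsLocalRing T := .of_surjective' (Ideal.Quotient.mk q) Ideal.Quotient.mk_surjective
  haveI : IsLocalHom (algebraMap A T) := by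
    rw [IsScalarTower.algebraMap_eq A B T]
    haveI : IsLocalHom (algebraMap B T) :=
      Function.Surjective.isLocalHom _ Ideal.Quotient.mk_surjective
    exact RingHom.isLocalHom_comp _ _
  haveI : Algebra.EssFiniteType A T :=
    Algebra.EssFiniteType.of_surjective (Ideal.Quotient.mkₐ A q) Ideal.Quotient.mk_surjective
  haveI hfinfib : Module.Finite A (T ⧸ (maximalIdeal A).map (algebraMap A T)) := by
    obtain ⟨k, hk⟩ : ∃ k, maximalIdeal B ^ k ≤ q ⊔ (maximalIdeal A).map (algebraMap A B) := by
      refine Ideal.exists_pow_le_of_le_radical_of_fg ?_ (IsNoetherian.noetherian _)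
      rw [Ideal.radical_eq_sInf]
      refine le_sInf fun P hP => ?_
      have hlt : q < P := lt_of_le_of_ne (le_sup_left.trans hP.1) fun h => hgq (h.symm ▸
        Ideal.mul_mem_left _ _ (hP.1 (Ideal.mem_sup_right (Ideal.mem_map_of_mem _ ha))))
      exact (habove P hP.2 hlt).ge
    haveI := AdicRingLib.RigClosed.finite_quotient_pow (A := A) (maximalIdeal B) k
    let φ : B →ₐ[A] T ⧸ (maximalIdeal A).map (algebraMap A T) :=
      (Ideal.Quotient.mkₐ A _).comp (Ideal.Quotient.mkₐ A q)
    have hφ : Function.Surjective φ :=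
      (Ideal.Quotient.mk_surjective).comp Ideal.Quotient.mk_surjective
    have hker : ∀ b ∈ maximalIdeal B ^ k, φ b = 0 := fun b hb => by
      obtain ⟨c, hc, d, hd, rfl⟩ := Submodule.mem_sup.mp (hk hb)
      rw [map_add]
      have h1 : φ c = 0 := by
        show Ideal.Quotient.mk _ (Ideal.Quotient.mk q c) = 0
        rw [Ideal.Quotient.eq_zero_iff_mem.mpr hc, map_zero]
      have h2 : φ d = 0 := by
        refine Ideal.Quotient.eq_zero_iff_mem.mpr ?_
        rw [IsScalarTower.algebraMap_eq A B T, ← Ideal.map_map]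
        exact Ideal.mem_map_of_mem _ hd
      rw [h1, h2, add_zero]
    exact Module.Finite.of_surjective (Ideal.Quotient.liftₐ _ φ hker).toLinearMap
      (fun z => by obtain ⟨b, rfl⟩ := hφ z; exact ⟨Ideal.Quotient.mk _ b, rfl⟩)
  -- Zariski's main theorem
  let C := Algebra.EssFiniteType.subalgebra A T
  let S := Algebra.EssFiniteType.submonoid A T
  haveI hS : IsLocalization S T := inferInstance
  haveI hC : Algebra.FiniteType A C := inferInstance
  set n := (maximalIdeal T).comap (algebraMap C T) with hn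
  haveI : n.IsPrime := Ideal.comap_isPrime _ _
  haveI : IsLocalization.AtPrime T n := by
    refine IsLocalization.of_le (M := S) (S := T) n.primeCompl (fun s hs h => ?_) fun r hr => ?_
    · exact (mem_maximalIdeal _).mp h (IsLocalization.map_units T ⟨s, hs⟩)
    · by_contra hu
      exact hr ((mem_maximalIdeal _).mpr hu)
  let e : Localization.AtPrime n ≃ₐ[C] T := IsLocalization.algEquiv n.primeCompl _ _
  have hunder : n.under A = maximalIdeal A := by
    ext x
    rw [Ideal.mem_comap, hn, Ideal.mem_comap, ← IsScalarTower.algebraMap_apply A C T,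
      mem_maximalIdeal, mem_maximalIdeal, mem_nonunits_iff, mem_nonunits_iff, isUnit_map_iff]
  haveI : Algebra.WeaklyQuasiFiniteAt A n := by
    rw [Algebra.weaklyQuasiFiniteAt_iff, hunder]
    refine (Algebra.QuasiFinite.iff_of_algEquiv (Ideal.quotientEquivAlg _
      ((maximalIdeal A).map (algebraMap A T)) (e.restrictScalars A) ?_)).mpr inferInstance
    rw [Ideal.map_map]
    congr 1
    exact ((e.restrictScalars A).toAlgHom.comp_algebraMap).symm
  haveI := Algebra.QuasiFiniteAt.of_weaklyQuasiFiniteAt (R := A) n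
  exact (Algebra.QuasiFinite.iff_of_algEquiv (e.restrictScalars A)).mp ‹Algebra.QuasiFiniteAt A n›

end Groth.Agent.QFPointLib
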